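import Cfsg.Agent.H844.Ore.BInv_m3
import Cfsg.Agent.H139.LD.Struct13
import Cfsg.Agent.H715.Mon.RowB47
import Cfsg.Agent.H180.TriH.RowBM
import Cfsg.Agent.CoThreeStd.MTwelveCent
import Cfsg.Agent.S1741
import Cfsg.Agent.H860.I4.SFive
import Cfsg.Agent.H671.J4.SFive
import Cfsg.Agent.H676.Deg.Val
import Cfsg.Agent.H954.DR.CentB
import Cfsg.Agent.BM.KHAll
import Cfsg.Agent.FastGrp
import Cfsg.Agent.Prune
set_option linter.all false

section
prune_inst 0x7f00000000000000000000000000000000000000000000000000000000000000000000000000000000000000000000000000000000000000000000000000000000000000000000000000000000000000003fffffffffffffffffffffffffffbeffbdffffffff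

-- part: H705/OreB/Small
section
set_option linter.all false
open scoped Cfsg.Agent.FastGrp

/-!
# Row B of Ore: the centralizers of the elements of prime order `q ≥ 7`, `q ≠ 23`, of the Baby Monster (helper705)
-/

set_option autoImplicit false
set_option maxRecDepth 100000

namespace Cfsg.Agent.H705.OreB.Small

open Cfsg Cfsg.Agent
open Cfsg.Agent.MonsterX Cfsg.Agent.MonsterX.InstData
open Cfsg.Agent.H940.Eng (Base)
open Cfsg.Agent.H715.Mon.Cent Cfsg.Agent.H715.Mon.Grp
open Cfsg.Agent.H241.Mon (Gam)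
open Cfsg.Agent.LThreeB (XT mem_XT)
open Subgroup (centralizer mem_centralizer_singleton_iff card_dvd_of_le)

universe u

variable {L : Type u} [Group L] [Finite L]

/-- the prime divisors of `|B|` -/
theorem primes {q : ℕ} (hq : q.Prime) (hd : q ∣ 4154781481226426191177580544000000) :
    q = 2 ∨ q = 3 ∨ q = 5 ∨ q = 7 ∨ q = 11 ∨ q = 13 ∨ q = 17 ∨ q = 19 ∨ q = 23 ∨ q = 31 ∨ q = 47 := by
  have h1 : (4154781481226426191177580544000000 : ℕ) =
      2 ^ 41 * 3 ^ 13 * 5 ^ 6 * 7 ^ 2 * 11 * 13 * 17 * 19 * 23 * 31 * 47 := by norm_num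
  rw [h1] at hd
  have key : ∀ {p k : ℕ}, p.Prime → q ∣ p ^ k → q = p := fun hp h =>
    (Nat.prime_dvd_prime_iff_eq hq hp).1 (hq.dvd_of_dvd_pow h)
  have key' : ∀ {p : ℕ}, p.Prime → q ∣ p → q = p := fun hp h => (Nat.prime_dvd_prime_iff_eq hq hp).1 h
  rcases hq.dvd_mul.1 hd with hd | hd
  rcases hq.dvd_mul.1 hd with hd | hd
  rcases hq.dvd_mul.1 hd with hd | hd
  rcases hq.dvd_mul.1 hd with hd | hd
  rcases hq.dvd_mul.1 hd with hd | hd
  rcases hq.dvd_mul.1 hd with hd | hd
  rcases hq.dvd_mul.1 hd with hd | hd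
  rcases hq.dvd_mul.1 hd with hd | hd
  rcases hq.dvd_mul.1 hd with hd | hd
  rcases hq.dvd_mul.1 hd with hd | hd
  · have := key Nat.prime_two hd; omega
  · have := key Nat.prime_three hd; omega
  · have := key Nat.prime_five hd; omega
  · have := key (by norm_num) hd; omega
  · have := key' (by norm_num) hd; omega
  · have := key' (by norm_num) hd; omega
  · have := key' (by norm_num) hd; omega
  · have := key' (by norm_num) hd; omega
  · have := key' (by norm_num) hd; omega
  · have := key' (by norm_num) hd; omega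
  · have := key' (by norm_num) hd; omega

/-- order 11 -/
theorem eleven (B : Base) (h : Spor.IsoB L) {s : L} (hs : orderOf s = 11) :
    Nat.card ↥(centralizer ({s} : Set L)) * 2 ≤ 11 * 95040 := by
  have hfin : Finite H630.Baby.Mon := MThirteen.Row.finite
  obtain ⟨t, x, ht, hx, hxt, hc⟩ := H630.Baby.exists_lift_card h (by norm_num) (by norm_num) hs
  rw [← hc, ← (H746.MEleven.cent_good B.table (fun X _ _ hX => B.known X hX) hx (MThirteen.Row.ta_order ht) hxt.symm).1]
  refine Nat.le_of_dvd Nat.card_pos (card_dvd_of_le fun g hg => ?_)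
  exact mem_centralizer_singleton_iff.2 (mem_XT.1 hg).1

/-- through the Monster -/
theorem of_mon (h : Spor.IsoB L) {q c : ℕ} (hq : q.Prime) (h2 : q ≠ 2)
    (hc : ∀ x : Gam, orderOf x = q → Nat.card (centralizer ({x} : Set Gam)) ≤ c) {s : L} (hs : orderOf s = q) :
    Nat.card ↥(centralizer ({s} : Set L)) * 2 ≤ c := by
  obtain ⟨x, hx, hd⟩ := H715.Mon.RowB.exists_cent h hq h2 hs
  have : 0 < Nat.card (centralizer ({x} : Set Gam)) := by
    rcases Nat.eq_zero_or_pos (Nat.card (centralizer ({x} : Set Gam))) with h0 | h0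
    · exfalso
      have hfin : Finite H630.Baby.Mon := MThirteen.Row.finite
      exact Nat.card_pos.ne' h0
    · exact h0
  exact (Nat.le_of_dvd this hd).trans (hc x hx)

/-- **Prime order `q ≥ 7`, `q ≠ 23`.** -/
theorem le_small (B : Base) (h : Spor.IsoB L) {q : ℕ} (hq : q.Prime) (h7 : 7 ≤ q) (h23 : q ≠ 23) {s : L}
    (hs : orderOf s = q) : Nat.card ↥(centralizer ({s} : Set L)) ≤ 564480 := by
  have hqd : q ∣ 4154781481226426191177580544000000 := by
    rw [← NotCT.Orders.b h, ← hs]
    exact orderOf_dvd_natCard s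
  rcases primes hq hqd with rfl | rfl | rfl | rfl | rfl | rfl | rfl | rfl | rfl | rfl | rfl
  · omega
  · omega
  · omega
  · exact H829.Pw.card_cent_seven h hs
  · have := eleven B h hs
    omega
  · rw [(H139.LD.struct13 h hs).1]
    norm_num
  · have := of_mon h (c := 168 * 17) (by norm_num) (by norm_num)
      (fun y hy => Nat.le_of_dvd (by norm_num) (Cfsg.Agent.H241.Mon.card_seventeen (three B) hy)) hs
    omega
  · have := of_mon h (c := 60 * 19) (by norm_num) (by norm_num) (fun y hy => card19 (sThree B) hy) hs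
    omega
  · exact absurd rfl h23
  · have := of_mon h (c := 6 * 31) (by norm_num) (by norm_num) (fun y hy => (card31 (sThree B) hy).le) hs
    omega
  · have := of_mon h (c := 47 * 2) (by norm_num) (by norm_num)
      (fun y hy => (H436.MonLoc.card47 B.known hy).le) hs
    omega

end Cfsg.Agent.H705.OreB.Small
end

-- part: H705/TwoB/Eleven
section
set_option linter.all false
open scoped Cfsg.Agent.FastGrp

-- part: H705/TwoB/Split
section
/-!
# Involutions of a group `11 × M₁₂` (helper705, row 2.B of S2491)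

`split` : `x` central of order 11, `|C| = 11 · 95040`, `C / ⟨x⟩` simple, `s` an involution: `|C(s)| = 11 · 192`, or
`|C(s)| = 11 · 240` and `S₅` embeds into `C(s)` without `s`.
-/

set_option autoImplicit false

namespace Cfsg.Agent.H705.TwoB.Split

open Subgroup Cfsg Equiv

universe u

/-- **Involutions of `M₁₂`.** -/
theorem twelve {Q : Type u} [Group Q] [Finite Q] [IsSimpleGroup Q] (hQ : Nat.card Q = 95040) {s : Q} (hs : s * s = 1)
    (hs1 : s ≠ 1) : Nat.card (centralizer ({s} : Set Q)) = 192 ∨
      (Nat.card (centralizer ({s} : Set Q)) = 240 ∧ ∃ f : Perm (Fin 5) →* Q, Function.Injective f ∧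
        (∀ σ, f σ * s = s * f σ) ∧ ∀ σ, f σ ≠ s) := by
  obtain ⟨e⟩ := Cfsg.Agent.MTwelveType.IsoEnd.isoM12_of_card hQ
  have hcard : ∀ (m : Spor.M12) (v : Spor.M12), m⁻¹ * v * m = e s →
      Nat.card (centralizer ({s} : Set Q)) = Nat.card (centralizer ({v} : Set Spor.M12)) := by
    intro m v hm
    let f : Q ≃* Spor.M12 := e.trans (MulAut.conj m)
    have hf : f s = v := by
      show m * e s * m⁻¹ = v
      rw [← hm]; group
    refine Nat.card_congr (f.toEquiv.subtypeEquiv fun g => ?_)
    show g ∈ centralizer ({s} : Set Q) ↔ f g ∈ centralizer ({v} : Set Spor.M12)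
    rw [mem_centralizer_singleton_iff, mem_centralizer_singleton_iff, ← hf, ← map_mul, ← map_mul, f.injective.eq_iff]
  rcases Cfsg.Agent.CoThreeStd.MTwelve.inv_class (e s) (fun h => hs1 (e.injective (by rw [h, map_one])))
    (by rw [← map_mul, hs, map_one]) with ⟨m, hm⟩ | ⟨m, hm⟩
  · right
    refine ⟨(hcard m _ hm).trans Cfsg.Agent.CoThreeStd.MTwelve.card_cent_y, ?_⟩
    let f : Q ≃* Spor.M12 := e.trans (MulAut.conj m)
    have hf : f s = Cfsg.Agent.CoThreeStd.MTwelve.y := by
      show m * e s * m⁻¹ = _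
      rw [← hm]; group
    refine ⟨f.symm.toMonoidHom.comp Cfsg.Agent.CoThreeStd.MTwelve.w, ?_, ?_, ?_⟩
    · exact f.symm.injective.comp Cfsg.Agent.CoThreeStd.MTwelve.w_injective
    · intro σ
      apply f.injective
      rw [map_mul, map_mul, hf]
      show f (f.symm (Cfsg.Agent.CoThreeStd.MTwelve.w σ)) * _ = _ * f (f.symm (Cfsg.Agent.CoThreeStd.MTwelve.w σ))
      rw [f.apply_symm_apply]
      exact (Cfsg.Agent.CoThreeStd.MTwelve.y_comm σ).symm
    · intro σ h
      apply Cfsg.Agent.CoThreeStd.MTwelve.y_ne_w σ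
      rw [← hf, ← h]
      exact f.apply_symm_apply _
  · left
    exact (hcard m _ hm).trans Cfsg.Agent.CoThreeStd.MTwelve.card_cent_v

/-- **Involutions of `11 × M₁₂`.** -/
theorem split {C : Type u} [Group C] [Finite C] {x : C} (hx : orderOf x = 11) (hxc : ∀ c : C, c * x = x * c)
    (hC : Nat.card C = 11 * 95040) [hn : (zpowers x).Normal] (hsim : IsSimpleGroup (C ⧸ zpowers x)) {s : C}
    (hs : s * s = 1) (hs1 : s ≠ 1) :
    Nat.card (centralizer ({s} : Set C)) = 11 * 192 ∨
      (Nat.card (centralizer ({s} : Set C)) = 11 * 240 ∧ ∃ f : Perm (Fin 5) →* C, Function.Injective f ∧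
        (∀ σ, f σ * s = s * f σ) ∧ ∀ σ, f σ ≠ s) := by
  have hN : Nat.card (zpowers x) = 11 := by rw [Nat.card_zpowers, hx]
  have hidx : (zpowers x).index = 95040 := by
    have h1 := (zpowers x).card_mul_index
    rw [hN, hC] at h1
    omega
  have hcen : ∀ a ∈ zpowers x, ∀ c : C, a * c = c * a := by
    intro a ha c
    obtain ⟨j, rfl⟩ := mem_zpowers_iff.1 ha
    exact (Commute.zpow_left (show Commute x c from (hxc c).symm) j).eq
  have hodd : ∀ a ∈ zpowers x, a * a = 1 → a = 1 := by
    intro a ha h2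
    have h4 : orderOf a ∣ 11 := by
      have := orderOf_dvd_natCard (⟨a, ha⟩ : zpowers x)
      rwa [hN, ← Subgroup.orderOf_coe] at this
    have h5 : orderOf a ∣ 2 := orderOf_dvd_of_pow_eq_one (by rw [pow_two, h2])
    have h6 := Nat.dvd_gcd h4 h5
    rw [show Nat.gcd 11 2 = 1 by norm_num, Nat.dvd_one, orderOf_eq_one_iff] at h6
    exact h6
  set π : C →* C ⧸ zpowers x := QuotientGroup.mk' (zpowers x) with hπ
  have hker : ∀ c : C, π c = 1 ↔ c ∈ zpowers x := fun c => QuotientGroup.eq_one_iff c
  have hsb : π s ≠ 1 := fun h => hs1 (hodd s ((hker s).1 h) hs)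
  have hsi : s⁻¹ = s := inv_eq_of_mul_eq_one_left hs
  -- commuting with `s`
  have hcomm : ∀ c : C, π c * π s = π s * π c → c * s = s * c := by
    intro c hc
    have h1 : c * s * c⁻¹ * s⁻¹ ∈ zpowers x := by
      rw [← hker, map_mul, map_mul, map_mul, map_inv, map_inv, hc]
      group
    have h2 : c * s * c⁻¹ * s⁻¹ = 1 := by
      apply hodd _ h1
      set z := c * s * c⁻¹ * s⁻¹ with hz
      have h3 : c * s * c⁻¹ = z * s := by rw [hz]; group
      have h4 : z * s * (z * s) = 1 := by
        rw [← h3]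
        calc c * s * c⁻¹ * (c * s * c⁻¹) = c * (s * s) * c⁻¹ := by group
          _ = 1 := by rw [hs]; group
      calc z * z = z * z * (s * s) := by rw [hs, mul_one]
        _ = z * (z * s) * s := by group
        _ = z * (s * z) * s := by rw [hcen z h1 s]
        _ = z * s * (z * s) := by group
        _ = 1 := h4
    have h3 : c * s * c⁻¹ = s := by
      calc c * s * c⁻¹ = c * s * c⁻¹ * s⁻¹ * s := by group
        _ = s := by rw [h2, one_mul]
    exact mul_inv_eq_iff_eq_mul.1 h3
  have hcent : centralizer ({s} : Set C) = (centralizer ({π s} : Set (C ⧸ zpowers x))).comap π := by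
    ext c
    rw [mem_comap, mem_centralizer_singleton_iff, mem_centralizer_singleton_iff]
    exact ⟨fun h => by rw [← map_mul, h, map_mul], hcomm c⟩
  have hcard : Nat.card (centralizer ({s} : Set C)) =
      11 * Nat.card (centralizer ({π s} : Set (C ⧸ zpowers x))) := by
    have h1 := (centralizer ({s} : Set C)).card_mul_index
    have h2 := (centralizer ({π s} : Set (C ⧸ zpowers x))).card_mul_index
    have h3 : (centralizer ({s} : Set C)).index = (centralizer ({π s} : Set (C ⧸ zpowers x))).index := by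
      rw [hcent]
      exact index_comap_of_surjective _ (QuotientGroup.mk'_surjective _)
    have h4 : Nat.card (C ⧸ zpowers x) = 95040 := by rw [← index_eq_card, hidx]
    rw [h4] at h2
    rw [h3, hC, ← h2, ← mul_assoc] at h1
    exact Nat.eq_of_mul_eq_mul_right (Nat.pos_of_ne_zero index_ne_zero_of_finite) h1
  have hQ : Nat.card (C ⧸ zpowers x) = 95040 := by rw [← index_eq_card, hidx]
  rcases twelve hQ (s := π s) (by rw [← map_mul, hs, map_one]) hsb with h | ⟨h, f, hf, h1, h2⟩
  · left
    rw [hcard, h]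
  · right
    refine ⟨by rw [hcard, h], ?_⟩
    -- the preimage
    let U : Subgroup C := f.range.comap π
    have hxU : zpowers x ≤ U := fun a ha => by
      rw [mem_comap, (hker a).2 ha]
      exact one_mem _
    have hR : Nat.card f.range = 120 := by
      rw [Nat.card_congr (MonoidHom.ofInjective hf).symm.toEquiv, Nat.card_perm, Nat.card_fin]
      rfl
    have hUc : Nat.card U = 11 * 120 := by
      have e1 := U.card_mul_index
      have e2 := f.range.card_mul_index
      have e3 : U.index = f.range.index := index_comap_of_surjective _ (QuotientGroup.mk'_surjective _)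
      rw [hR, hQ] at e2
      rw [e3, hC] at e1
      have e4 : f.range.index = 792 := by omega
      rw [e4] at e1
      omega
    have hNU : Nat.card ((zpowers x).subgroupOf U) = 11 := by
      rw [Nat.card_congr (subgroupOfEquivOfLe hxU).toEquiv, hN]
    have hNidx : ((zpowers x).subgroupOf U).index = 120 := by
      have e1 := ((zpowers x).subgroupOf U).card_mul_index
      rw [hNU, hUc] at e1
      omega
    obtain ⟨K, hK⟩ := exists_right_complement'_of_coprime (N := (zpowers x).subgroupOf U)
      (by rw [hNU, hNidx]; norm_num)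
    have hKc : Nat.card K = 120 := by
      have e1 := hK.card_mul_card
      rw [hNU, hUc] at e1
      omega
    let ρ : K →* f.range :=
      { toFun := fun k => ⟨π ((k : U) : C), (k : U).2⟩
        map_one' := Subtype.ext (map_one π)
        map_mul' := fun a b => Subtype.ext (map_mul π _ _) }
    have hρ : Function.Injective ρ := by
      rw [injective_iff_map_eq_one]
      intro k hk
      have e1 : π ((k : U) : C) = 1 := congrArg Subtype.val hk
      have e2 : (k : U) ∈ (zpowers x).subgroupOf U ⊓ K := ⟨mem_subgroupOf.2 ((hker _).1 e1), k.2⟩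
      rw [hK.disjoint.eq_bot, mem_bot] at e2
      exact Subtype.ext e2
    have hρb : Function.Bijective ρ := (Nat.bijective_iff_injective_and_card ρ).2 ⟨hρ, by rw [hKc, hR]⟩
    let E : K ≃* f.range := MulEquiv.ofBijective ρ hρb
    let g : Perm (Fin 5) →* C := (U.subtype.comp K.subtype).comp (E.symm.toMonoidHom.comp (MonoidHom.ofInjective hf).toMonoidHom)
    have hg : ∀ σ, π (g σ) = f σ := by
      intro σ
      have e1 : E (E.symm (MonoidHom.ofInjective hf σ)) = MonoidHom.ofInjective hf σ := E.apply_symm_apply _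
      exact congrArg Subtype.val e1
    refine ⟨g, ?_, fun σ => ?_, fun σ h3 => ?_⟩
    · intro σ τ h3
      apply hf
      rw [← hg, ← hg, h3]
    · apply hcomm
      rw [hg]
      exact h1 σ
    · apply h2 σ
      rw [← hg, h3]

end Cfsg.Agent.H705.TwoB.Split
end

-- part: H705/TwoB/Eleven
section
/-!
# The degrees of the Baby Monster modulo 11 (helper705, row 2.B of S2491)

* `struct11` : `|C(y)| = 1320` and `C(y)` contains `S₅`, for `y` of order 11;
* `res11` : `χ(1) ≡ 0, ± 1, ± 4, ± 5, ± 6` modulo 11.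
-/

set_option autoImplicit false
set_option maxRecDepth 100000

namespace Cfsg.Agent.H705.TwoB.Eleven

open Cfsg Cfsg.Agent Cfsg.Agent.MonsterX Cfsg.Agent.MonsterX.InstData Cfsg.Agent.MonsterX.MainPack Cfsg.Agent.MonsterU
open Cfsg.Agent.MonsterP Cfsg.Agent.MonsterN
open Cfsg.Agent.LThreeB (XT mem_XT centXT centXT')
open Subgroup (centralizer mem_centralizer_singleton_iff center card_dvd_of_le zpowers normalizer)
open Cfsg.Agent.H979.BAdj Cfsg.Agent.H979.CovLift Cfsg.Agent.H979.OddB
open Cfsg.Agent.H940.Eng (Base)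
open Equiv (Perm)

universe u

/-- **`C(y) = 11 × S₅`.** -/
theorem struct11 (B : Base) {L : Type u} [Group L] [Finite L] (h : Spor.IsoB L) {y : L} (hy : orderOf y = 11) :
    Nat.card ↥(centralizer ({y} : Set L)) = 1320 ∧
      ∃ f : Perm (Fin 5) →* L, Function.Injective f ∧ ∀ σ, f σ * y = y * f σ := by
  have hfin : Finite H630.Baby.Mon := MThirteen.Row.finite
  obtain ⟨t, ht, h2, ⟨e⟩⟩ := exists_cover h
  obtain ⟨a, ha, ha'⟩ := exists_lift h2 (by norm_num : Nat.Prime 11) (by norm_num) (x := e.symm y)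
    (by rw [MulEquiv.orderOf_eq, hy])
  have haM : orderOf (a : ↥InstData.M.G) = 11 := by rw [Subgroup.orderOf_coe, ha]
  have hat : (a : ↥InstData.M.G) * t = t * a := mem_centralizer_singleton_iff.1 a.2
  have hto := MThirteen.Row.ta_order ht
  have htt : t * t = 1 := by rw [← pow_two, ← hto, pow_orderOf_eq_one]
  have ht1 : t ≠ 1 := by
    rintro rfl
    rw [orderOf_one] at hto
    norm_num at hto
  have hxm : (a : ↥InstData.M.G) ∈ centralizer ({(a : ↥InstData.M.G)} : Set ↥InstData.M.G) :=
    mem_centralizer_singleton_iff.2 rfl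
  have hxc : ∀ c : ↥(centralizer ({(a : ↥InstData.M.G)} : Set ↥InstData.M.G)),
      c * ⟨a, hxm⟩ = ⟨a, hxm⟩ * c := fun c => Subtype.ext (mem_centralizer_singleton_iff.1 c.2)
  have hxn : (zpowers (⟨a, hxm⟩ : ↥(centralizer ({(a : ↥InstData.M.G)} : Set ↥InstData.M.G)))).Normal := by
    refine ⟨fun n hn c => ?_⟩
    obtain ⟨k, rfl⟩ := Subgroup.mem_zpowers_iff.1 hn
    have h4 : Commute c (⟨a, hxm⟩ : ↥(centralizer ({(a : ↥InstData.M.G)} : Set ↥InstData.M.G))) := hxc c
    rw [(h4.zpow_right k).eq, mul_inv_cancel_right]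
    exact hn
  obtain ⟨hc, hsim⟩ := H746.MEleven.card_cent_good B.table (fun X _ _ hX => B.known X hX) haM hto hat hxm
  have hsm : t ∈ centralizer ({(a : ↥InstData.M.G)} : Set ↥InstData.M.G) := mem_centralizer_singleton_iff.2 hat.symm
  have hcc : Nat.card ↥(XT (a : ↥InstData.M.G) t) = Nat.card ↥(centralizer ({y} : Set L)) * 2 := by
    have h3 := H979.CovLift.card_cent h2 e (by norm_num : Nat.Prime 11) (by norm_num) ha
    rw [ha', e.apply_symm_apply] at h3
    rw [← h3]
    exact Nat.card_congr (centXT a).toEquiv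
  have hcs : Nat.card ↥(centralizer ({(⟨t, hsm⟩ : ↥(centralizer ({(a : ↥InstData.M.G)} : Set ↥InstData.M.G)))} :
      Set ↥(centralizer ({(a : ↥InstData.M.G)} : Set ↥InstData.M.G)))) = Nat.card ↥(centralizer ({y} : Set L)) * 2 := by
    rw [← hcc]
    exact Nat.card_congr (centXT' (⟨t, hsm⟩ : ↥(centralizer ({(a : ↥InstData.M.G)} : Set ↥InstData.M.G)))).toEquiv
  have hL : Nat.card L = 4154781481226426191177580544000000 := by
    obtain ⟨f⟩ := h
    rw [Nat.card_congr f.toEquiv, Cfsg.Agent.BM.KHAll.card_B]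
  have h112 : ¬ 11 ^ 2 ∣ Nat.card L := by rw [hL]; norm_num
  rcases Split.split (x := (⟨a, hxm⟩ : ↥(centralizer ({(a : ↥InstData.M.G)} : Set ↥InstData.M.G))))
    (by rw [← Subgroup.orderOf_coe]; exact haM) hxc hc hsim (s := ⟨t, hsm⟩) (Subtype.ext htt)
    (fun h => ht1 (congrArg Subtype.val h)) with h192 | ⟨h240, f, hf, hf1, hf2⟩
  · exfalso
    rw [hcs] at h192
    have h5 : Nat.card ↥(centralizer ({y} : Set L)) = 1056 := by omega
    obtain ⟨f, hf, -, h3⟩ := Cfsg.Agent.H954.DR.CentB.arith (by norm_num : Nat.Prime 11) h112 hy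
    rw [h5, hL] at h3
    have h6 : f ∣ 10 := hf
    have h7 : f ≤ 10 := Nat.le_of_dvd (by norm_num) h6
    interval_cases f <;> revert h3 h6 <;> norm_num
  · rw [hcs] at h240
    refine ⟨by omega, ?_⟩
    let F : Perm (Fin 5) →* ↥(centralizer ({t} : Set ↥InstData.M.G)) :=
      { toFun := fun σ => ⟨((f σ : ↥(centralizer ({(a : ↥InstData.M.G)} : Set ↥InstData.M.G))) : ↥InstData.M.G),
          mem_centralizer_singleton_iff.2 (congrArg Subtype.val (hf1 σ))⟩
        map_one' := Subtype.ext (by
          have h9 : ((f 1 : ↥(centralizer ({(a : ↥InstData.M.G)} : Set ↥InstData.M.G))) : ↥InstData.M.G) = 1 := by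
            rw [map_one]; rfl
          exact h9)
        map_mul' := fun σ τ => Subtype.ext (by
          have h9 : ((f (σ * τ) : ↥(centralizer ({(a : ↥InstData.M.G)} : Set ↥InstData.M.G))) : ↥InstData.M.G) =
              (f σ : ↥(centralizer ({(a : ↥InstData.M.G)} : Set ↥InstData.M.G))) *
              ((f τ : ↥(centralizer ({(a : ↥InstData.M.G)} : Set ↥InstData.M.G))) : ↥InstData.M.G) := by
            rw [map_mul]; rfl
          exact h9) }
    have htZ : (⟨t, mem_centralizer_singleton_iff.2 rfl⟩ : ↥(centralizer ({t} : Set ↥InstData.M.G))) ∈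
        center ↥(centralizer ({t} : Set ↥InstData.M.G)) := by
      rw [Subgroup.mem_center_iff]
      intro g
      exact Subtype.ext (mem_centralizer_singleton_iff.1 g.2)
    have hZ : ∀ z ∈ center ↥(centralizer ({t} : Set ↥InstData.M.G)), z = 1 ∨ (z : ↥InstData.M.G) = t := by
      intro z hz
      by_contra hcon
      push Not at hcon
      let g : Fin 3 → center ↥(centralizer ({t} : Set ↥InstData.M.G)) := ![1, ⟨_, htZ⟩, ⟨z, hz⟩]
      have hne1 : (1 : center ↥(centralizer ({t} : Set ↥InstData.M.G))) ≠ ⟨_, htZ⟩ := fun h => ht1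
        (congrArg (fun w : center ↥(centralizer ({t} : Set ↥InstData.M.G)) =>
          ((w : ↥(centralizer ({t} : Set ↥InstData.M.G))) : ↥InstData.M.G)) h).symm
      have hne2 : (1 : center ↥(centralizer ({t} : Set ↥InstData.M.G))) ≠ ⟨z, hz⟩ := fun h => hcon.1
        (congrArg Subtype.val h).symm
      have hne3 : (⟨_, htZ⟩ : center ↥(centralizer ({t} : Set ↥InstData.M.G))) ≠ ⟨z, hz⟩ := fun h => hcon.2
        (congrArg (fun w : center ↥(centralizer ({t} : Set ↥InstData.M.G)) =>
          ((w : ↥(centralizer ({t} : Set ↥InstData.M.G))) : ↥InstData.M.G)) h).symm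
      have hg : Function.Injective g := by
        intro i j hij
        fin_cases i <;> fin_cases j
        · rfl
        · exact absurd hij hne1
        · exact absurd hij hne2
        · exact absurd hij.symm hne1
        · rfl
        · exact absurd hij hne3
        · exact absurd hij.symm hne2
        · exact absurd hij.symm hne3
        · rfl
      have h3 := Nat.card_le_card_of_injective g hg
      rw [h2, Nat.card_eq_fintype_card, Fintype.card_fin] at h3
      omega
    let Φ : Perm (Fin 5) →* L := (e.toMonoidHom.comp (QuotientGroup.mk' (center ↥(centralizer ({t} : Set ↥InstData.M.G))))).comp F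
    refine ⟨Φ, ?_, ?_⟩
    · rw [injective_iff_map_eq_one]
      intro σ hσ
      have h3 : (QuotientGroup.mk (F σ) : ↥(centralizer ({t} : Set ↥InstData.M.G)) ⧸ center ↥(centralizer ({t} : Set ↥InstData.M.G))) = 1 :=
        e.injective (by rw [map_one]; exact hσ)
      rcases hZ _ ((QuotientGroup.eq_one_iff _).1 h3) with h4 | h4
      · apply hf
        rw [map_one]
        apply Subtype.ext
        have h5 : ((F σ : ↥(centralizer ({t} : Set ↥InstData.M.G))) : ↥InstData.M.G) = 1 := congrArg Subtype.val h4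
        exact h5
      · exact absurd (Subtype.ext h4 : f σ = ⟨t, hsm⟩) (hf2 σ)
    · intro σ
      have h3 : F σ * a = a * F σ := Subtype.ext (mem_centralizer_singleton_iff.1 (f σ).2)
      have h4 : e (QuotientGroup.mk a) = y := by rw [ha', e.apply_symm_apply]
      show e (QuotientGroup.mk (F σ)) * y = y * e (QuotientGroup.mk (F σ))
      rw [← h4]
      refine (map_mul e _ _).symm.trans (Eq.trans (congrArg e ?_) (map_mul e _ _))
      exact (QuotientGroup.mk_mul _ _ _).symm.trans ((congrArg _ h3).trans (QuotientGroup.mk_mul _ _ _))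

open Cfsg.Agent.Characters.Core Cfsg.Agent.SmallSimple.ThetaSetup Cfsg.Agent.H34.TI Cfsg.Agent.H671.J4

end Cfsg.Agent.H705.TwoB.Eleven
end
end
end
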